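import Mathlib
import Groth.Agent.H1.FlatLocusA

/-!
# Flat and quasi-finite principal open neighbourhoods
-/

set_option autoImplicit false
set_option linter.unusedSectionVars false
set_option linter.style.haveILetI false
universe u
open TensorProduct

namespace Groth.Agent.H47.QF

/-- pointwise flatness in terms of `Localization.AtPrime`. -/
theorem flat_localizedModule_iff_atPrime (R T : Type u) [CommRing R] [CommRing T] [Algebra R T]
    (P : Ideal T) [P.IsPrime] :
    Module.Flat R (LocalizedModule P.primeCompl T) ↔ Module.Flat R (Localization.AtPrime P) := by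
  let e : LocalizedModule P.primeCompl T ≃ₗ[T] Localization.AtPrime P :=
    IsLocalizedModule.linearEquiv P.primeCompl (LocalizedModule.mkLinearMap _ _)
      (Algebra.linearMap T _)
  exact ⟨fun h => .of_linearEquiv (e.restrictScalars R).symm,
    fun h => .of_linearEquiv (e.restrictScalars R)⟩

/-- if `T` is flat over `R` at the prime `q`, it is flat on a principal open neighbourhood. -/
theorem exists_flat_away (R T : Type u) [CommRing R] [CommRing T] [Algebra R T] [IsNoetherianRing R]
    [Algebra.FiniteType R T] (q : Ideal T) [q.IsPrime] [Module.Flat R (Localization.AtPrime q)] :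
    ∃ g : T, g ∉ q ∧ Module.Flat R (Localization.Away g) := by
  have hopen := Groth.Agent.H1.FlatLocus.isOpen_flatLocus_of_isNoetherianRing
    (R := R) (S := T) (M := T)
  have hmem : (⟨q, inferInstance⟩ : PrimeSpectrum T) ∈
      Groth.Agent.H1.FlatLocus.flatLocus R (S := T) T :=
    (flat_localizedModule_iff_atPrime R T q).mpr inferInstance
  obtain ⟨_, ⟨g, rfl⟩, hg, hsub⟩ :=
    PrimeSpectrum.isTopologicalBasis_basic_opens.exists_subset_of_mem_open hmem hopen
  refine ⟨g, hg, ?_⟩
  refine Module.flat_of_isLocalized_maximal (R := R) (Localization.Away g) (Localization.Away g)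
    (fun P _ => Localization.AtPrime P) (fun P _ => Algebra.linearMap _ _) ?_
  intro P hP
  haveI := hP.isPrime
  let P' : Ideal T := P.comap (algebraMap T (Localization.Away g))
  have hgP' : g ∉ P' := by
    intro h
    have h1 : algebraMap T (Localization.Away g) g ∈ P := h
    exact hP.isPrime.ne_top (Ideal.eq_top_of_isUnit_mem _ h1 (IsLocalization.Away.algebraMap_isUnit g))
  have hflat : Module.Flat R (LocalizedModule P'.primeCompl T) :=
    hsub (show (⟨P', inferInstance⟩ : PrimeSpectrum T) ∈ PrimeSpectrum.basicOpen g from hgP')
  haveI : IsLocalization.AtPrime (Localization.AtPrime P) P' :=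
    IsLocalization.isLocalization_isLocalization_atPrime_isLocalization (Submonoid.powers g)
      (Localization.AtPrime P) P
  let e : LocalizedModule P'.primeCompl T ≃ₗ[T] Localization.AtPrime P :=
    IsLocalizedModule.linearEquiv P'.primeCompl (LocalizedModule.mkLinearMap _ _)
      (Algebra.linearMap T _)
  exact .of_linearEquiv (e.restrictScalars R).symm

/-- if `T` is quasi-finite over `R` at the prime `q`, it is quasi-finite on a principal open
neighbourhood (Zariski's main theorem). -/
theorem exists_quasiFinite_away (R T : Type u) [CommRing R] [CommRing T] [Algebra R T]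
    [Algebra.FiniteType R T] (q : Ideal T) [q.IsPrime] [Algebra.QuasiFiniteAt R q] :
    ∃ r : T, r ∉ q ∧ Algebra.QuasiFinite R (Localization.Away r) := by
  obtain ⟨S', hS', r, hrq, H⟩ :=
    Algebra.QuasiFiniteAt.exists_fg_and_exists_notMem_and_awayMap_bijective (R := R) q
  have : Module.Finite R S' := ⟨(Submodule.fg_top _).mpr hS'⟩
  have : Algebra.QuasiFinite R (Localization.Away r) := .trans _ S' _
  exact ⟨r.1, hrq, .of_surjective_algHom (Localization.awayMapₐ S'.val r) H.2⟩

end Groth.Agent.H47.QF
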