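import Mathlib
import Groth.Agent.H29.CMLocusFT2
import Groth.Agent.H72.FlatCM
import Groth.Agent.H49.CMLocalize
import Groth.Agent.H29.CM
import Groth.Agent.H11.FtDim
import Groth.Agent.H15.Depth

/-!
# Cohen–Macaulay closed points of finite type algebras over a field, and regular sequences
-/

set_option autoImplicit false
set_option linter.unusedSectionVars false
set_option linter.style.haveILetI false
universe u
open TensorProduct

namespace Groth.Agent.H47.QF

/-- a nontrivial finite type algebra over a field has a maximal ideal at which it is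
Cohen–Macaulay. -/
theorem exists_isMaximal_isCM (k F : Type u) [Field k] [CommRing F] [Algebra k F]
    [Algebra.FiniteType k F] [Nontrivial F] :
    ∃ Q : Ideal F, ∃ _ : Q.IsMaximal, LocCoh.IsCohenMacaulayLocalRing (Localization.AtPrime Q) := by
  haveI : IsNoetherianRing F := Algebra.FiniteType.isNoetherianRing k F
  obtain ⟨J, hJ⟩ := Ideal.exists_maximal F
  haveI := hJ.isPrime
  obtain ⟨P₀, hP₀, -⟩ := Ideal.exists_minimalPrimes_le (bot_le : (⊥ : Ideal F) ≤ J)
  haveI hP₀prime : P₀.IsPrime := hP₀.1.1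
  have hdim : ringKrullDim (Localization.AtPrime P₀) = 0 := by
    rw [IsLocalization.AtPrime.ringKrullDim_eq_height P₀, Ideal.height_eq_zero_iff.mpr hP₀]
    rfl
  have hCM₀ : LocCoh.IsCohenMacaulayLocalRing (Localization.AtPrime P₀) :=
    Groth.Agent.H72.FlatCM.isCohenMacaulayLocalRing_of_ringKrullDim_eq_zero _ hdim
  have hopen := Groth.Agent.H29.CMLocusFT.isOpen_CMLocus k F
  have hmem : (⟨P₀, hP₀prime⟩ : PrimeSpectrum F) ∈ {q : PrimeSpectrum F |
      LocCoh.IsCohenMacaulayLocalRing (Localization.AtPrime q.asIdeal)} := hCM₀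
  obtain ⟨_, ⟨g, rfl⟩, hg, hsub⟩ :=
    PrimeSpectrum.isTopologicalBasis_basic_opens.exists_subset_of_mem_open hmem hopen
  have hgP₀ : g ∉ P₀ := hg
  obtain ⟨Q, hQ, -, hgQ⟩ := Groth.Agent.H11.FtDim.exists_maximal_not_mem (k := k) P₀ g hgP₀
  haveI := hQ.isPrime
  exact ⟨Q, hQ, hsub (show (⟨Q, hQ.isPrime⟩ : PrimeSpectrum F) ∈ PrimeSpectrum.basicOpen g from hgQ)⟩


open RingTheory.Sequence IsLocalRing in
/-- (after helper73's `CMAcyc.exists_regular_seq`) a maximal regular sequence in a
Cohen–Macaulay local ring. -/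
theorem exists_regular_seq (C : Type u) [CommRing C] [LocCoh.IsCohenMacaulayLocalRing C] (g : ℕ)
    (hg : ringKrullDim C = g) :
    ∃ rs : List C, IsWeaklyRegular C rs ∧ (∀ r ∈ rs, r ∈ maximalIdeal C) ∧ rs.length = g := by
  have h := LocCoh.IsCohenMacaulayLocalRing.supportDim_eq_depth (R := C)
  rw [Module.supportDim_self_eq_ringKrullDim, hg] at h
  have h' : LocCoh.depth C C = (g : ℕ∞) := by
    have : ((g : ℕ∞) : WithBot ℕ∞) = ((LocCoh.depth C C : ℕ∞) : WithBot ℕ∞) := by
      rw [← h]; rfl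
    exact (WithBot.coe_injective this).symm
  unfold LocCoh.depth LocCoh.idealDepth at h'
  split_ifs at h' with htop
  · exact absurd h' (by simp)
  · rw [iSup_subtype'] at h'
    haveI : Nonempty {rs : List C // IsWeaklyRegular C rs ∧ ∀ r ∈ rs, r ∈ maximalIdeal C} :=
      ⟨⟨[], IsWeaklyRegular.nil C C, by simp⟩⟩
    obtain ⟨⟨rs, h1, h2⟩, h3⟩ := ENat.exists_eq_iSup_of_lt_top
      (f := fun rs : {rs : List C // IsWeaklyRegular C rs ∧ ∀ r ∈ rs, r ∈ maximalIdeal C} =>
        ((rs : List C).length : ℕ∞)) (by rw [h']; exact ENat.natCast_lt_top g)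
    refine ⟨rs, h1, h2, ?_⟩
    rw [h'] at h3
    exact_mod_cast h3

open RingTheory.Sequence IsLocalRing in
/-- in a Cohen–Macaulay local ring there is a regular sequence in the maximal ideal such that
the maximal ideal is the only prime containing it. -/
theorem exists_regular_seq_forall_prime (C : Type u) [CommRing C]
    [LocCoh.IsCohenMacaulayLocalRing C] :
    ∃ rs : List C, IsWeaklyRegular C rs ∧ (∀ r ∈ rs, r ∈ maximalIdeal C) ∧
      ∀ P : Ideal C, P.IsPrime → Ideal.ofList rs ≤ P → P = maximalIdeal C := by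
  haveI : IsNoetherianRing C := LocCoh.IsCohenMacaulayLocalRing.toIsNoetherian
  haveI : IsLocalRing C := LocCoh.IsCohenMacaulayLocalRing.toIsLocalRing
  obtain ⟨g, hg⟩ := Groth.Agent.H29.CML.exists_nat_supportDim_eq (A := C) C
  rw [Module.supportDim_self_eq_ringKrullDim] at hg
  obtain ⟨rs, hreg, hmem, hlen⟩ := exists_regular_seq C g hg
  refine ⟨rs, hreg, hmem, ?_⟩
  have reg : IsRegular C rs :=
    Groth.Agent.H15.isRegular_of_isWeaklyRegular_of_mem (maximalIdeal C) C
      (Groth.Agent.H29.CML.smul_top_ne_top C) hreg hmem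
  have h := Module.supportDim_add_length_eq_supportDim_of_isRegular rs reg
  rw [Module.supportDim_self_eq_ringKrullDim, hg, hlen] at h
  have hI : (Ideal.ofList rs • ⊤ : Submodule C C) = Ideal.ofList rs := by
    rw [smul_eq_mul, Ideal.mul_top]
  have h0 : ringKrullDim (C ⧸ Ideal.ofList rs) = 0 := by
    rw [← Module.supportDim_quotient_eq_ringKrullDim,
      ← Module.supportDim_eq_of_equiv (Submodule.quotEquivOfEq _ _ hI)]
    have hnt : Nontrivial (C ⧸ (Ideal.ofList rs • ⊤ : Submodule C C)) :=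
      Submodule.Quotient.nontrivial_iff.mpr reg.2.symm
    obtain ⟨e, he⟩ := Groth.Agent.H29.CML.exists_nat_supportDim_eq (A := C)
      (C ⧸ (Ideal.ofList rs • ⊤ : Submodule C C))
    rw [he] at h ⊢
    have : e + g = g := by exact_mod_cast h
    have : e = 0 := by omega
    rw [this]; rfl
  intro P hP hle
  haveI : Ring.KrullDimLE 0 (C ⧸ Ideal.ofList rs) := by
    rw [Ring.krullDimLE_iff, h0]; rfl
  have hPne : P ≠ ⊤ := hP.ne_top
  haveI : (P.map (Ideal.Quotient.mk (Ideal.ofList rs))).IsPrime :=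
    Ideal.map_isPrime_of_surjective Ideal.Quotient.mk_surjective (by
      rw [Ideal.mk_ker]; exact hle)
  have hmax : (P.map (Ideal.Quotient.mk (Ideal.ofList rs))).IsMaximal :=
    Ideal.isMaximal_of_isPrime _
  have hcomap : (P.map (Ideal.Quotient.mk (Ideal.ofList rs))).comap
      (Ideal.Quotient.mk (Ideal.ofList rs)) = P := by
    rw [Ideal.comap_map_of_surjective _ Ideal.Quotient.mk_surjective, ← RingHom.ker_eq_comap_bot,
      Ideal.mk_ker, sup_eq_left]
    exact hle
  have hPmax : P.IsMaximal := by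
    rw [← hcomap]
    exact Ideal.comap_isMaximal_of_surjective _ Ideal.Quotient.mk_surjective
  exact IsLocalRing.eq_maximalIdeal hPmax

end Groth.Agent.H47.QF
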