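import Mathlib
import Groth.Agent.H47.QF.CMPoint
import Groth.Agent.H29.FlatReg

/-!
# Slicing a flat finite type algebra through a Cohen–Macaulay closed point of a fibre
-/

set_option autoImplicit false
set_option linter.unusedSectionVars false
set_option linter.style.haveILetI false
universe u
open TensorProduct Algebra.TensorProduct

namespace Groth.Agent.H47.QF

/-- `R` Noetherian, `S` flat of finite type, `p` a prime with nonempty fibre: there are a prime `q`
over `p` and an ideal `I ≤ q` such that `(S/I)_q` is flat over `R` and `q` is isolated in the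
fibre of `S/I` over `p`. -/
theorem slice (R S : Type u) [CommRing R] [CommRing S] [Algebra R S] [IsNoetherianRing R]
    [Algebra.FiniteType R S] [Module.Flat R S] (p : Ideal R) [p.IsPrime] [Nontrivial (p.Fiber S)] :
    ∃ (q : Ideal S) (_ : q.IsPrime) (_ : q.LiesOver p) (I : Ideal S), I ≤ q ∧
      Module.Flat R (Localization.AtPrime q ⧸ I.map (algebraMap S (Localization.AtPrime q))) ∧
      (∀ q' : Ideal S, q'.IsPrime → q'.LiesOver p → q ≤ q' → q' = q) ∧
      (∀ q' : Ideal S, q'.IsPrime → q'.LiesOver p → I ≤ q' → q' ≤ q → q' = q) := by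
  haveI : Algebra.FiniteType p.ResidueField (p.Fiber S) := inferInstance
  obtain ⟨Q, hQmax, hCM⟩ := exists_isMaximal_isCM p.ResidueField (p.Fiber S)
  haveI := hQmax.isPrime
  let q : Ideal S := Q.comap includeRight
  haveI : q.IsPrime := inferInstance
  haveI hqp : q.LiesOver p := ⟨by
    have h := Q.over_def p
    rw [h]
    ext x
    simp only [Ideal.under, Ideal.mem_comap, q]
    rw [← AlgHom.commutes (includeRight : S →ₐ[R] p.Fiber S)]⟩
  let e := Ideal.Fiber.algEquivAux₂ p Q
  let A := Localization.AtPrime p
  let B := Localization.AtPrime q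
  letI : Algebra A B := Localization.AtPrime.algebraOfLiesOver p q
  haveI : IsScalarTower R A B := inferInstance
  haveI : Module.Flat A B := inferInstance
  haveI : IsNoetherianRing S := Algebra.FiniteType.isNoetherianRing R S
  haveI : IsNoetherianRing B := inferInstance
  haveI : IsLocalHom (algebraMap A B) := by
    rw [Localization.AtPrime.IsLiesOverAlgebra.algebraMap_eq (p := p) (P := q)]
    infer_instance
  let J : Ideal B := (p.map (algebraMap R S)).map (algebraMap S B)
  have e' : Localization.AtPrime Q ≃+* B ⧸ J := e.toRingEquiv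
  haveI hCM' : LocCoh.IsCohenMacaulayLocalRing (B ⧸ J) :=
    Groth.Agent.H49.isCohenMacaulayLocalRing_of_ringEquiv e' hCM
  obtain ⟨rs, hrs, hmem, hprime⟩ := exists_regular_seq_forall_prime (B ⧸ J)
  obtain ⟨fs, rfl⟩ := (List.map_surjective_iff.mpr
    (Ideal.Quotient.mk_surjective (I := J))) rs
  have hJ : (IsLocalRing.maximalIdeal A).map (algebraMap A B) = J := by
    rw [← Localization.AtPrime.map_eq_maximalIdeal, Ideal.map_map,
      ← IsScalarTower.algebraMap_eq R A B, IsScalarTower.algebraMap_eq R S B, ← Ideal.map_map]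
  have hJ' : (J : Submodule B B) =
      ((IsLocalRing.maximalIdeal A).map (algebraMap A B) • (⊤ : Submodule B B)) := by
    rw [hJ, smul_eq_mul, Ideal.mul_top]
  have hreg : RingTheory.Sequence.IsWeaklyRegular
      (B ⧸ ((IsLocalRing.maximalIdeal A).map (algebraMap A B) • (⊤ : Submodule B B))) fs := by
    rw [← (Submodule.quotEquivOfEq _ _ hJ').isWeaklyRegular_congr fs]
    exact (RingTheory.Sequence.isWeaklyRegular_map_algebraMap_iff (B ⧸ J) (B ⧸ J) fs).mp hrs
  have hflat := (Groth.Agent.H29.FlatReg.main (A := A) (B := B) B fs hreg fs.length le_rfl).1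
  rw [List.take_length] at hflat
  have hfsmax : Ideal.ofList fs ≤ IsLocalRing.maximalIdeal B := by
    rw [Ideal.ofList, Ideal.span_le]
    intro f hf
    have h1 := hmem (Ideal.Quotient.mk J f) (List.mem_map_of_mem hf)
    by_contra hcon
    have hu : IsUnit f := by
      by_contra h2
      exact hcon ((IsLocalRing.mem_maximalIdeal f).mpr h2)
    exact ((IsLocalRing.mem_maximalIdeal _).mp h1) (hu.map (Ideal.Quotient.mk J))
  let I : Ideal S := (Ideal.ofList fs).comap (algebraMap S B)
  have hImap : I.map (algebraMap S B) = Ideal.ofList fs :=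
    IsLocalization.map_under q.primeCompl B _
  have hmaxq : (IsLocalRing.maximalIdeal B).comap (algebraMap S B) = q :=
    IsLocalization.AtPrime.under_maximalIdeal B q
  have hIq : I ≤ q :=
    (Ideal.comap_mono (f := algebraMap S B) hfsmax).trans hmaxq.le
  refine ⟨q, inferInstance, hqp, I, hIq, ?_, ?_, ?_⟩
  · have : Module.Flat R (B ⧸ (Ideal.ofList fs • ⊤ : Submodule B B)) :=
      Module.Flat.trans R A _
    have hE : (Ideal.ofList fs • ⊤ : Submodule B B) = I.map (algebraMap S B) := by
      rw [hImap, smul_eq_mul, Ideal.mul_top]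
    exact Module.Flat.of_linearEquiv
      ((Submodule.quotEquivOfEq _ _ hE).restrictScalars R).symm
  · intro q' hq' hq'p hqq'
    let eo := PrimeSpectrum.primesOverOrderIsoFiber R S p
    let Q' := eo ⟨q', ⟨hq', hq'p⟩⟩
    have hQ' : Q'.asIdeal.comap (includeRight : S →ₐ[R] p.Fiber S) = q' := by
      have := PrimeSpectrum.coe_primesOverOrderIsoFiber_symm_apply (R := R) (S := S) (p := p) Q'
      rw [OrderIso.symm_apply_apply] at this
      exact this.symm
    have hQQ' : (⟨Q, inferInstance⟩ : PrimeSpectrum (p.Fiber S)) ≤ Q' := by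
      rw [← eo.symm.le_iff_le]
      change ((eo.symm ⟨Q, inferInstance⟩ : p.primesOver S) : Ideal S) ≤
        ((eo.symm Q' : p.primesOver S) : Ideal S)
      rw [PrimeSpectrum.coe_primesOverOrderIsoFiber_symm_apply,
        PrimeSpectrum.coe_primesOverOrderIsoFiber_symm_apply, hQ']
      exact hqq'
    have hEq : Q = Q'.asIdeal := hQmax.eq_of_le Q'.2.ne_top hQQ'
    rw [← hQ', ← hEq]
  · intro q' hq' hq'p hIq' hq'q
    have hdisj : Disjoint (q.primeCompl : Set S) (q' : Set S) := by
      rw [Set.disjoint_left]
      intro x hx hx'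
      exact hx (hq'q hx')
    have hq'B : (q'.map (algebraMap S B)).IsPrime :=
      IsLocalization.isPrime_of_isPrime_disjoint q.primeCompl B q' hq' hdisj
    have hJle : J ≤ q'.map (algebraMap S B) := by
      refine Ideal.map_mono ?_
      rw [Ideal.map_le_iff_le_comap]
      exact (hq'p.over).le
    have hP : ((q'.map (algebraMap S B)).map (Ideal.Quotient.mk J)).IsPrime :=
      Ideal.map_isPrime_of_surjective Ideal.Quotient.mk_surjective (by
        rw [Ideal.mk_ker]; exact hJle)
    have hle : Ideal.ofList (List.map (⇑(Ideal.Quotient.mk J)) fs) ≤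
        (q'.map (algebraMap S B)).map (Ideal.Quotient.mk J) := by
      rw [Ideal.ofList, Ideal.span_le]
      intro x hx
      obtain ⟨f, hf, rfl⟩ := List.mem_map.mp hx
      refine Ideal.mem_map_of_mem _ ?_
      have h1 : f ∈ Ideal.ofList fs := Ideal.subset_span hf
      rw [← hImap] at h1
      exact Ideal.map_mono hIq' h1
    have hPmax := hprime _ hP hle
    have h2 : q'.map (algebraMap S B) = IsLocalRing.maximalIdeal B := by
      have h3 : ((q'.map (algebraMap S B)).map (Ideal.Quotient.mk J)).comap
          (Ideal.Quotient.mk J) = q'.map (algebraMap S B) := by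
        rw [Ideal.comap_map_of_surjective _ Ideal.Quotient.mk_surjective,
          ← RingHom.ker_eq_comap_bot, Ideal.mk_ker, sup_eq_left]
        exact hJle
      rw [← h3, hPmax]
      haveI : ((IsLocalRing.maximalIdeal (B ⧸ J)).comap (Ideal.Quotient.mk J)).IsMaximal :=
        Ideal.comap_isMaximal_of_surjective _ Ideal.Quotient.mk_surjective
      exact IsLocalRing.eq_maximalIdeal inferInstance
    rw [← IsLocalization.under_map_of_isPrime_disjoint q.primeCompl B hq' hdisj, h2]
    exact hmaxq

end Groth.Agent.H47.QF
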