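import Mathlib
import Groth.Agent.H47.QF.Slice
import Groth.Agent.H47.QF.Nbhd

/-!
# Local quasi-finite flat slices
-/

set_option autoImplicit false
set_option linter.unusedSectionVars false
set_option linter.style.haveILetI false
universe u
open TensorProduct

namespace Groth.Agent.H47.QF

/-- a prime `q₁` of a finite type `R`-algebra that is incomparable with every other prime of its
fibre is quasi-finite over `R`. -/
theorem quasiFiniteAt_of_isolated (R T : Type u) [CommRing R] [CommRing T] [Algebra R T]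
    [Algebra.FiniteType R T] (q : Ideal T) [q.IsPrime]
    (hup : ∀ q' : Ideal T, q'.IsPrime → q'.comap (algebraMap R T) = q.comap (algebraMap R T) →
      q ≤ q' → q' = q)
    (hdown : ∀ q' : Ideal T, q'.IsPrime → q'.comap (algebraMap R T) = q.comap (algebraMap R T) →
      q' ≤ q → q' = q) :
    Algebra.QuasiFiniteAt R q := by
  let x : PrimeSpectrum T := ⟨q, inferInstance⟩
  refine Algebra.QuasiFiniteAt.of_isOpen_singleton_fiber (R := R) x ?_
  let pt := x.comap (algebraMap R T)
  let e := PrimeSpectrum.preimageHomeomorphFiber R T pt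
  let eo := PrimeSpectrum.preimageOrderIsoFiber R T pt
  rw [← e.isOpen_image, Set.image_singleton]
  haveI : Algebra.FiniteType pt.asIdeal.ResidueField (pt.asIdeal.Fiber T) := inferInstance
  haveI : IsNoetherianRing (pt.asIdeal.Fiber T) :=
    Algebra.FiniteType.isNoetherianRing pt.asIdeal.ResidueField _
  haveI : IsJacobsonRing (pt.asIdeal.Fiber T) :=
    isJacobsonRing_of_finiteType (A := pt.asIdeal.ResidueField)
  have htfae := (PrimeSpectrum.isOpen_singleton_tfae_of_isNoetherian_of_isJacobsonRing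
    (e ⟨x, rfl⟩)).out 2 0
  refine htfae.mp ⟨?_, ?_⟩
  · rw [PrimeSpectrum.isClosed_singleton_iff_isMaximal, ← PrimeSpectrum.isMax_iff]
    change IsMax (eo ⟨x, rfl⟩)
    rw [OrderIso.isMax_apply]
    intro y hy
    have h1 : y.1.asIdeal = q := hup y.1.asIdeal y.1.2 congr($(y.2).asIdeal) hy
    exact h1.le
  · rw [PrimeSpectrum.stableUnderGeneralization_singleton, ← PrimeSpectrum.isMin_iff]
    change IsMin (eo ⟨x, rfl⟩)
    rw [OrderIso.isMin_apply]
    intro y hy
    have h1 : y.1.asIdeal = q := hdown y.1.asIdeal y.1.2 congr($(y.2).asIdeal) hy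
    exact h1.ge

/-- `R` Noetherian, `S` flat of finite type, `p` a prime with nonempty fibre: there is a flat,
quasi-finite, finite type `R`-algebra `T` receiving `S` with a prime over `p`. -/
theorem exists_local (R S : Type u) [CommRing R] [CommRing S] [Algebra R S] [IsNoetherianRing R]
    [Algebra.FiniteType R S] [Module.Flat R S] (p : Ideal R) [p.IsPrime] [Nontrivial (p.Fiber S)] :
    ∃ (T : Type u) (_ : CommRing T) (_ : Algebra R T), Algebra.FiniteType R T ∧ Module.Flat R T ∧
      Algebra.QuasiFinite R T ∧ Nonempty (S →ₐ[R] T) ∧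
      ∃ P : Ideal T, P.IsPrime ∧ P.comap (algebraMap R T) = p := by
  obtain ⟨q, hq, hqp, I, hIq, hflat, hup, hdown⟩ := slice R S p
  let T₁ := S ⧸ I
  let q₁ : Ideal T₁ := q.map (Ideal.Quotient.mk I)
  have hq₁ : q₁.IsPrime := Ideal.map_isPrime_of_surjective Ideal.Quotient.mk_surjective (by
    rw [Ideal.mk_ker]; exact hIq)
  have hq₁c : q₁.comap (Ideal.Quotient.mk I) = q := by
    rw [Ideal.comap_map_of_surjective _ Ideal.Quotient.mk_surjective, ← RingHom.ker_eq_comap_bot,
      Ideal.mk_ker, sup_eq_left]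
    exact hIq
  have hqR : q.comap (algebraMap R S) = p := (hqp.over).symm
  have hq₁R : q₁.comap (algebraMap R T₁) = p := by
    rw [IsScalarTower.algebraMap_eq R S T₁, ← Ideal.comap_comap]
    change (q₁.comap (Ideal.Quotient.mk I)).comap (algebraMap R S) = p
    rw [hq₁c, hqR]
  -- flatness at `q₁`
  let B := Localization.AtPrime q
  haveI : q₁.LiesOver q := ⟨hq₁c.symm⟩
  have hsub : Algebra.algebraMapSubmonoid T₁ q.primeCompl = q₁.primeCompl :=
    Ideal.algebraMapSubmonoid_primeCompl_of_liesOver_surjective q₁ q Ideal.Quotient.mk_surjective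
  haveI : IsLocalization q₁.primeCompl (B ⧸ I.map (algebraMap S B)) := hsub ▸ inferInstance
  let e : Localization.AtPrime q₁ ≃ₐ[T₁] B ⧸ I.map (algebraMap S B) :=
    IsLocalization.algEquiv q₁.primeCompl _ _
  haveI : IsScalarTower R T₁ (B ⧸ I.map (algebraMap S B)) := IsScalarTower.to₁₃₄ R S T₁ _
  haveI : Module.Flat R (Localization.AtPrime q₁) :=
    .of_linearEquiv (e.toLinearEquiv.restrictScalars R)
  -- quasi-finiteness at `q₁`
  haveI : Algebra.QuasiFiniteAt R q₁ := by
    refine quasiFiniteAt_of_isolated R T₁ q₁ ?_ ?_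
    · intro q' hq' hq'R hle
      have h1 : q'.comap (Ideal.Quotient.mk I) = q := by
        refine hup _ (Ideal.comap_isPrime _ _) ⟨?_⟩ ?_
        · rw [hq₁R] at hq'R
          rw [← hq'R, IsScalarTower.algebraMap_eq R S T₁, ← Ideal.comap_comap]
          rfl
        · rw [← hq₁c]
          exact Ideal.comap_mono hle
      rw [← Ideal.map_comap_of_surjective _ Ideal.Quotient.mk_surjective q', h1]
    · intro q' hq' hq'R hle
      have h1 : q'.comap (Ideal.Quotient.mk I) = q := by
        refine hdown _ (Ideal.comap_isPrime _ _) ⟨?_⟩ ?_ ?_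
        · rw [hq₁R] at hq'R
          rw [← hq'R, IsScalarTower.algebraMap_eq R S T₁, ← Ideal.comap_comap]
          rfl
        · intro x hx
          rw [Ideal.mem_comap, Ideal.Quotient.eq_zero_iff_mem.mpr hx]
          exact q'.zero_mem
        · rw [← hq₁c]
          exact Ideal.comap_mono hle
      rw [← Ideal.map_comap_of_surjective _ Ideal.Quotient.mk_surjective q', h1]
  -- flat neighbourhood
  obtain ⟨g, hg, hflat₂⟩ := exists_flat_away R T₁ q₁
  let T₂ := Localization.Away g
  have hdisj₂ : Disjoint (Submonoid.powers g : Set T₁) (q₁ : Set T₁) :=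
    (Ideal.disjoint_powers_iff_notMem_of_isPrime g).mpr hg
  let q₂ : Ideal T₂ := q₁.map (algebraMap T₁ T₂)
  haveI hq₂ : q₂.IsPrime :=
    IsLocalization.isPrime_of_isPrime_disjoint (Submonoid.powers g) T₂ q₁ hq₁ hdisj₂
  have hq₂c : q₂.comap (algebraMap T₁ T₂) = q₁ :=
    IsLocalization.under_map_of_isPrime_disjoint (Submonoid.powers g) T₂ hq₁ hdisj₂
  haveI : q₂.LiesOver q₁ := ⟨hq₂c.symm⟩
  haveI : Algebra.FiniteType R T₂ := inferInstance
  haveI : Algebra.QuasiFiniteAt R q₂ :=
    .of_surjectiveOnStalks_of_liesOver q₁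
      (RingHom.surjectiveOnStalks_of_isLocalization (Submonoid.powers g) T₂) q₂
  -- quasi-finite neighbourhood
  obtain ⟨r, hr, hqf⟩ := exists_quasiFinite_away R T₂ q₂
  let T₃ := Localization.Away r
  have hdisj₃ : Disjoint (Submonoid.powers r : Set T₂) (q₂ : Set T₂) :=
    (Ideal.disjoint_powers_iff_notMem_of_isPrime r).mpr hr
  let q₃ : Ideal T₃ := q₂.map (algebraMap T₂ T₃)
  haveI hq₃ : q₃.IsPrime :=
    IsLocalization.isPrime_of_isPrime_disjoint (Submonoid.powers r) T₃ q₂ hq₂ hdisj₃
  have hq₃c : q₃.comap (algebraMap T₂ T₃) = q₂ :=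
    IsLocalization.under_map_of_isPrime_disjoint (Submonoid.powers r) T₃ hq₂ hdisj₃
  haveI : Algebra.FiniteType R T₃ := inferInstance
  haveI : Module.Flat R T₃ := inferInstance
  refine ⟨T₃, inferInstance, inferInstance, inferInstance, inferInstance, hqf,
    ⟨((IsScalarTower.toAlgHom R T₂ T₃).comp (IsScalarTower.toAlgHom R T₁ T₂)).comp
      (IsScalarTower.toAlgHom R S T₁)⟩, q₃, hq₃, ?_⟩
  rw [IsScalarTower.algebraMap_eq R T₂ T₃, ← Ideal.comap_comap, hq₃c,
    IsScalarTower.algebraMap_eq R T₁ T₂, ← Ideal.comap_comap, hq₂c, hq₁R]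

end Groth.Agent.H47.QF
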