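import Mathlib
import Groth.Agent.H47.QF.Local

/-!
# Quasi-finite flat multisections over a Noetherian base
-/

set_option autoImplicit false
set_option linter.unusedSectionVars false
set_option linter.style.haveILetI false
universe u v
open TensorProduct

namespace Groth.Agent.H47.QF

section pi

variable {ι : Type v} [Finite ι] (R : Type u) [CommRing R] (T : ι → Type u)
  [∀ i, CommRing (T i)] [∀ i, Algebra R (T i)]

theorem flat_pi [∀ i, Module.Flat R (T i)] : Module.Flat R (Π i, T i) := by
  classical
  haveI := Fintype.ofFinite ι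
  exact Module.Flat.of_linearEquiv (DFinsupp.linearEquivFunOnFintype (R := R) (M := T)).symm

theorem quasiFinite_pi [∀ i, Algebra.QuasiFinite R (T i)] : Algebra.QuasiFinite R (Π i, T i) := by
  classical
  haveI := Fintype.ofFinite ι
  refine ⟨fun P _ => ?_⟩
  exact Module.Finite.equiv (TensorProduct.piRight R P.ResidueField P.ResidueField T).symm

theorem range_comap_pi (i : ι) :
    Set.range (PrimeSpectrum.comap (algebraMap R (T i))) ⊆
      Set.range (PrimeSpectrum.comap (algebraMap R (Π i, T i))) := by
  rintro _ ⟨P, rfl⟩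
  refine ⟨P.comap (Pi.evalRingHom T i), ?_⟩
  rw [← PrimeSpectrum.comap_comp_apply]
  rfl

end pi

/-- a prime in the image of `Spec S → Spec R` has a nontrivial fibre ring. -/
theorem nontrivial_fiber_of_mem_range (R S : Type u) [CommRing R] [CommRing S] [Algebra R S]
    (x : PrimeSpectrum R) (hx : x ∈ Set.range (PrimeSpectrum.comap (algebraMap R S))) :
    Nontrivial (x.asIdeal.Fiber S) := by
  obtain ⟨y, hy⟩ := hx
  have : Nonempty (PrimeSpectrum (x.asIdeal.Fiber S)) :=
    ⟨PrimeSpectrum.preimageEquivFiber R S x ⟨y, hy⟩⟩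
  exact PrimeSpectrum.nonempty_iff_nontrivial.mp this

/-- **Noetherian case**: `R` Noetherian, `S` flat of finite type. There is a flat, quasi-finite,
finite type `R`-algebra `T` receiving `S` whose image in `Spec R` contains that of `S`. -/
theorem exists_noeth (R S : Type u) [CommRing R] [CommRing S] [Algebra R S] [IsNoetherianRing R]
    [Algebra.FiniteType R S] [Module.Flat R S] :
    ∃ (T : Type u) (_ : CommRing T) (_ : Algebra R T), Algebra.FiniteType R T ∧ Module.Flat R T ∧
      Algebra.QuasiFinite R T ∧ Nonempty (S →ₐ[R] T) ∧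
      Set.range (PrimeSpectrum.comap (algebraMap R S)) ⊆
        Set.range (PrimeSpectrum.comap (algebraMap R T)) := by
  let U : Set (PrimeSpectrum R) := Set.range (PrimeSpectrum.comap (algebraMap R S))
  have key : ∀ x : U, ∃ (T : Type u) (_ : CommRing T) (_ : Algebra R T), Algebra.FiniteType R T ∧
      Module.Flat R T ∧ Algebra.QuasiFinite R T ∧ Nonempty (S →ₐ[R] T) ∧
      ∃ P : Ideal T, P.IsPrime ∧ P.comap (algebraMap R T) = x.1.asIdeal := by
    intro x
    haveI := nontrivial_fiber_of_mem_range R S x.1 x.2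
    exact exists_local R S x.1.asIdeal
  choose T instCR instAlg hft hfl hqf hhom P hP hPx using key
  letI : ∀ x, CommRing (T x) := instCR
  letI : ∀ x, Algebra R (T x) := instAlg
  let V : U → Set (PrimeSpectrum R) := fun x => Set.range (PrimeSpectrum.comap (algebraMap R (T x)))
  have hVopen : ∀ x, IsOpen (V x) := by
    intro x
    haveI := hft x
    haveI := hfl x
    haveI : Algebra.FinitePresentation R (T x) := Algebra.FinitePresentation.of_finiteType.mp (hft x)
    exact (PrimeSpectrum.isOpenMap_comap_of_hasGoingDown_of_finitePresentation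
      (R := R) (S := T x)).isOpen_range
  have hxV : ∀ x : U, x.1 ∈ V x := by
    intro x
    exact ⟨⟨P x, hP x⟩, PrimeSpectrum.ext (hPx x)⟩
  have hUc : IsCompact U := TopologicalSpace.NoetherianSpace.isCompact U
  obtain ⟨t, ht⟩ := hUc.elim_finite_subcover V hVopen (fun x hx =>
    Set.mem_iUnion.mpr ⟨⟨x, hx⟩, hxV ⟨x, hx⟩⟩)
  let T' : t → Type u := fun i => T i.1
  haveI : ∀ i : t, Module.Flat R (T' i) := fun i => hfl i.1
  haveI : ∀ i : t, Algebra.QuasiFinite R (T' i) := fun i => hqf i.1
  haveI : ∀ i : t, Algebra.FinitePresentation R (T' i) := fun i =>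
    Algebra.FinitePresentation.of_finiteType.mp (hft i.1)
  refine ⟨Π i : t, T' i, inferInstance, inferInstance, inferInstance, flat_pi R T',
    quasiFinite_pi R T', ⟨AlgHom.pi (fun i => (hhom i.1).some)⟩, ?_⟩
  intro x hx
  obtain ⟨i, hi, hxi⟩ := Set.mem_iUnion₂.mp (ht hx)
  exact range_comap_pi R T' ⟨i, hi⟩ hxi

end Groth.Agent.H47.QF
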