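import Mathlib
import Groth.Agent.H47.QF.Global
import Groth.Agent.H1.FlatDescSub
import Groth.Agent.H49.FlatApprox

/-!
# Quasi-finite flat multisections of flat finitely presented algebras (not nec. faithfully flat)
-/

set_option autoImplicit false
set_option linter.unusedSectionVars false
set_option linter.style.haveILetI false
universe u
open TensorProduct

namespace Groth.Agent.H47.QF

/-- For a flat ring map `R → S` of finite presentation there is a quasi-finite, flat, finitely
presented `R`-algebra `S'` together with an `R`-algebra map `S → S'` such that the image of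
`Spec S'` in `Spec R` contains that of `Spec S`. -/
theorem main_flat (R : Type u) [CommRing R] (S : Type u) [CommRing S] [Algebra R S]
    [Module.Flat R S] [Algebra.FinitePresentation R S] :
    ∃ (S' : Type u) (_ : CommRing S') (_ : Algebra R S'),
      Algebra.QuasiFinite R S' ∧ Module.Flat R S' ∧
        Algebra.FinitePresentation R S' ∧ Nonempty (S →ₐ[R] S') ∧
        Set.range (PrimeSpectrum.comap (algebraMap R S)) ⊆
          Set.range (PrimeSpectrum.comap (algebraMap R S')) := by
  have H : Groth.Agent.H49.FlatApprox.Hyp4848.{u} := by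
    intro A₀ _ ι _ G _ _ g A _ _ _ _ hcolim B₀ _ _ _ M₀ _ _ _ _ _
    exact Groth.Agent.S4848.result G g A hcolim (B₀ := B₀) M₀
  obtain ⟨R₀, _, _, S₀, _, _, hft, hfp, hfl, ⟨e⟩⟩ :=
    Groth.Agent.H49.FlatApprox.exists_flat_model H R S
  haveI : IsNoetherianRing R₀ := Algebra.FiniteType.isNoetherianRing ℤ R₀
  haveI : Algebra.FiniteType R₀ S₀ := inferInstance
  obtain ⟨T, _, _, hT1, hT2, hT3, ⟨φ⟩, hrange⟩ := exists_noeth R₀ S₀
  haveI : Algebra.FinitePresentation R₀ T := Algebra.FinitePresentation.of_finiteType.mp hT1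
  refine ⟨R ⊗[R₀] T, inferInstance, inferInstance, inferInstance, inferInstance, inferInstance,
    ⟨(Algebra.TensorProduct.map (AlgHom.id R R) φ).comp e.symm.toAlgHom⟩, ?_⟩
  rintro _ ⟨y, rfl⟩
  -- the point of `Spec S₀` below `y`
  let y' : PrimeSpectrum (R ⊗[R₀] S₀) := PrimeSpectrum.comap e.toAlgHom.toRingHom y
  let z : PrimeSpectrum S₀ := PrimeSpectrum.comap
    (Algebra.TensorProduct.includeRight (R := R₀) (A := R) (B := S₀)).toRingHom y'
  have hz : PrimeSpectrum.comap (algebraMap R₀ S₀) z =
      PrimeSpectrum.comap (algebraMap R₀ R) (PrimeSpectrum.comap (algebraMap R S) y) := by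
    simp only [z, y', ← PrimeSpectrum.comap_comp_apply]
    congr 1
    ext a
    simp only [AlgHom.toRingHom_eq_coe, RingHom.coe_comp, RingHom.coe_coe, Function.comp_apply,
      Algebra.TensorProduct.includeRight_apply, AlgEquiv.coe_toAlgHom]
    rw [← e.commutes (algebraMap R₀ R a), Algebra.TensorProduct.algebraMap_apply,
      Algebra.algebraMap_self, RingHom.id_apply, Algebra.TensorProduct.tmul_one_eq_one_tmul]
  obtain ⟨w, hw⟩ := hrange ⟨z, rfl⟩
  obtain ⟨Q, hQ, -⟩ := Groth.Agent.H1.FlatDescSub.exists_prime_tensorProduct R₀ R T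
    (PrimeSpectrum.comap (algebraMap R S) y) w (by rw [hw, hz])
  exact ⟨Q, hQ⟩

end Groth.Agent.H47.QF
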