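import Mathlib
import Groth.Agent.H47.QF.MainFlat

/-!
# fppf covers are refined by flat, locally quasi-finite covers (scheme level)
-/

set_option autoImplicit false
set_option linter.unusedSectionVars false
set_option linter.style.haveILetI false
universe u
open AlgebraicGeometry CategoryTheory Limits

namespace Groth.Agent.H47.QF

/-- ring-hom form of `main_flat`. -/
theorem main_flat_ringHom {R S : CommRingCat.{u}} (φ : R ⟶ S) (hfl : φ.hom.Flat)
    (hfp : φ.hom.FinitePresentation) :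
    ∃ (A : CommRingCat.{u}) (ψ : R ⟶ A) (θ : S ⟶ A), φ ≫ θ = ψ ∧ ψ.hom.Flat ∧
      ψ.hom.FinitePresentation ∧ ψ.hom.QuasiFinite ∧
      Set.range (PrimeSpectrum.comap φ.hom) ⊆ Set.range (PrimeSpectrum.comap ψ.hom) := by
  letI := φ.hom.toAlgebra
  haveI : Module.Flat R S := hfl
  haveI : Algebra.FinitePresentation R S := hfp
  obtain ⟨A, _, _, hqf, hflat, hfpA, ⟨θ⟩, hrange⟩ := main_flat R S
  refine ⟨CommRingCat.of A, CommRingCat.ofHom (algebraMap R A), CommRingCat.ofHom θ.toRingHom,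
    ?_, ?_, ?_, ?_, hrange⟩
  · ext x
    exact θ.commutes x
  · exact (RingHom.flat_algebraMap_iff).mpr hflat
  · exact (RingHom.finitePresentation_algebraMap).mpr hfpA
  · exact (RingHom.quasiFinite_algebraMap).mpr hqf

/-- the local piece: around a point `s` of the base in the image of `g`. -/
theorem exists_local_piece {S' S : Scheme.{u}} (g : S' ⟶ S) [Flat g] [LocallyOfFinitePresentation g]
    (s' : S') :
    ∃ (Y : Scheme.{u}) (f : Y ⟶ S) (r : Y ⟶ S'), r ≫ g = f ∧ Flat f ∧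
      LocallyOfFinitePresentation f ∧ LocallyQuasiFinite f ∧ g s' ∈ Set.range f := by
  obtain ⟨_, ⟨W, hW : IsAffineOpen W, rfl⟩, hsW, -⟩ :=
    S.isBasis_affineOpens.exists_subset_of_mem_open (Set.mem_univ (g s')) isOpen_univ
  obtain ⟨_, ⟨U, hU : IsAffineOpen U, rfl⟩, hsU, hUW⟩ :=
    S'.isBasis_affineOpens.exists_subset_of_mem_open (show s' ∈ (g ⁻¹ᵁ W : Set S') from hsW)
      (g ⁻¹ᵁ W).isOpen
  have hUW' : U ≤ g ⁻¹ᵁ W := hUW
  have hfl : (g.appLE W U hUW').hom.Flat := HasRingHomProperty.appLE (P := @Flat) g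
    inferInstance ⟨W, hW⟩ ⟨U, hU⟩ hUW'
  have hfp : (g.appLE W U hUW').hom.FinitePresentation :=
    HasRingHomProperty.appLE (P := @LocallyOfFinitePresentation) g inferInstance ⟨W, hW⟩ ⟨U, hU⟩ hUW'
  obtain ⟨A, ψ, θ, hcomp, hψfl, hψfp, hψqf, hrange⟩ :=
    main_flat_ringHom (g.appLE W U hUW') hfl hfp
  haveI : Flat (Spec.map ψ) := (HasRingHomProperty.Spec_iff (P := @Flat)).mpr hψfl
  haveI : LocallyOfFinitePresentation (Spec.map ψ) :=
    (HasRingHomProperty.Spec_iff (P := @LocallyOfFinitePresentation)).mpr hψfp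
  haveI : LocallyQuasiFinite (Spec.map ψ) :=
    (HasRingHomProperty.Spec_iff (P := @LocallyQuasiFinite)).mpr hψqf
  refine ⟨Spec A, Spec.map ψ ≫ hW.fromSpec, Spec.map θ ≫ hU.fromSpec, ?_, inferInstance,
    inferInstance, inferInstance, ?_⟩
  · rw [Category.assoc, ← IsAffineOpen.SpecMap_appLE_fromSpec g hW hU hUW', ← Category.assoc,
      ← Spec.map_comp, hcomp]
  · obtain ⟨y, hy⟩ : s' ∈ Set.range hU.fromSpec := by
      rw [hU.range_fromSpec]; exact hsU
    obtain ⟨z, hz⟩ := hrange ⟨y, rfl⟩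
    refine ⟨z, ?_⟩
    rw [Scheme.Hom.comp_apply]
    have h1 : (Spec.map ψ) z = (Spec.map (g.appLE W U hUW')) y := hz
    rw [h1, ← Scheme.Hom.comp_apply, IsAffineOpen.SpecMap_appLE_fromSpec g hW hU hUW',
      Scheme.Hom.comp_apply, hy]

/-- **fppf covers are refined by flat, locally quasi-finite covers.** -/
theorem main_scheme {S' S : Scheme.{u}} (g : S' ⟶ S) [Flat g] [LocallyOfFinitePresentation g]
    [Surjective g] :
    ∃ (T : Scheme.{u}) (h : T ⟶ S), Flat h ∧ LocallyOfFinitePresentation h ∧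
      LocallyQuasiFinite h ∧ Surjective h ∧
      ∀ t : ↑T, ∃ (V : T.Opens) (r : ↑V ⟶ S'), t ∈ V ∧ r ≫ g = V.ι ≫ h := by
  choose Y f r hr hfl hfp hqf hmem using exists_local_piece g
  refine ⟨∐ Y, Sigma.desc f, IsZariskiLocalAtSource.sigmaDesc hfl,
    IsZariskiLocalAtSource.sigmaDesc hfp, IsZariskiLocalAtSource.sigmaDesc hqf, ?_, ?_⟩
  · refine Surjective.sigmaDesc_of_union_range_eq_univ ?_
    rw [Set.eq_univ_iff_forall]
    intro s
    obtain ⟨s', rfl⟩ := g.surjective s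
    exact Set.mem_iUnion.mpr ⟨s', hmem s'⟩
  · intro t
    obtain ⟨i, y, rfl⟩ := (sigmaOpenCover Y).exists_eq t
    refine ⟨(Sigma.ι Y i).opensRange, (Sigma.ι Y i).isoOpensRange.inv ≫ r i, ⟨y, rfl⟩, ?_⟩
    rw [Category.assoc, hr i, ← Sigma.ι_desc f i, ← Category.assoc,
      Scheme.Hom.isoOpensRange_inv_comp]

end Groth.Agent.H47.QF
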