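import Mathlib
import Groth.Agent.H47.QF.Global
import Groth.Agent.H1.FlatDescSub

/-!
# Quasi-finite faithfully flat multisections (EGA IV 17.16.2, ring form)
-/

set_option autoImplicit false
set_option linter.unusedSectionVars false
set_option linter.style.haveILetI false
universe u
open TensorProduct

namespace Groth.Agent.H47.QF

/-- For a faithfully flat ring map `R → S` of finite presentation there is a quasi-finite,
faithfully flat, finitely presented `R`-algebra `S'` together with an `R`-algebra map `S → S'`. -/
theorem main (R : Type u) [CommRing R] (S : Type u) [CommRing S] [Algebra R S]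
    [Module.FaithfullyFlat R S] [Algebra.FinitePresentation R S] :
    ∃ (S' : Type u) (_ : CommRing S') (_ : Algebra R S'),
      Algebra.QuasiFinite R S' ∧ Algebra.FiniteType R S' ∧ Module.FaithfullyFlat R S' ∧
        Algebra.FinitePresentation R S' ∧ Nonempty (S →ₐ[R] S') := by
  obtain ⟨R₀, _, _, S₀, _, _, hft, hinj, hfp, hff, ⟨e⟩⟩ :=
    Groth.Agent.H1.FlatDescSub.exists_model_faithfullyFlat R S
  haveI : IsNoetherianRing R₀ := Algebra.FiniteType.isNoetherianRing ℤ R₀
  haveI : Algebra.FiniteType R₀ S₀ := inferInstance
  obtain ⟨T, _, _, hT1, hT2, hT3, ⟨φ⟩, hrange⟩ := exists_noeth R₀ S₀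
  haveI : Algebra.FinitePresentation R₀ T := Algebra.FinitePresentation.of_finiteType.mp hT1
  have hsurj : Set.range (PrimeSpectrum.comap (algebraMap R₀ R)) ⊆
      Set.range (PrimeSpectrum.comap (algebraMap R₀ T)) := by
    refine subset_trans ?_ hrange
    intro x _
    exact PrimeSpectrum.comap_surjective_of_faithfullyFlat (B := S₀) x
  have hffT : Module.FaithfullyFlat R (R ⊗[R₀] T) :=
    Groth.Agent.H1.FlatDescSub.faithfullyFlat_tensor_of_range_subset R₀ R T hsurj
  refine ⟨R ⊗[R₀] T, inferInstance, inferInstance, inferInstance, inferInstance, hffT,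
    inferInstance, ⟨?_⟩⟩
  exact (Algebra.TensorProduct.map (AlgHom.id R R) φ).comp e.toAlgHom

end Groth.Agent.H47.QF
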